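import Mathlib

/-!
A group of order `2ℓ(ℓ+1)` containing two subgroups of order `2ℓ` in general position has no
non-trivial involutory automorphism fixing one of them pointwise.
-/

set_option autoImplicit false
open scoped Pointwise

namespace CfsgLib.Derangements.FourOnDihedral

variable {X : Type*} [Group X] [Finite X]

set_option linter.style.haveILetI false in
theorem eq_one_of_fixed_half {ℓ : ℕ} (hℓ : ℓ.Prime) (hℓ2 : ℓ ≠ 2) (C D : Subgroup X)
    (hC : Nat.card C = 2 * ℓ) (hD : Nat.card D = 2 * ℓ) (hCD : Nat.card (C ⊓ D : Subgroup X) ≤ 2)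
    (hX : Nat.card X = 2 * ℓ * (ℓ + 1)) (α : MulAut X) (h2 : α * α = 1)
    (hfix : ∀ x ∈ C, α x = x)
    (hcen : ∀ k ∈ C ⊓ D, (∀ c ∈ C, k * c = c * k) → k = 1) : α = 1 := by
  classical
  haveI := Fact.mk hℓ
  have h3 : 3 ≤ ℓ := by have := hℓ.two_le; omega
  obtain ⟨u, hu⟩ := exists_prime_orderOf_dvd_card' (G := C) ℓ (hC ▸ Dvd.intro_left 2 rfl)
  obtain ⟨v, hv⟩ := exists_prime_orderOf_dvd_card' (G := D) ℓ (hD ▸ Dvd.intro_left 2 rfl)
  rw [← Subgroup.orderOf_coe] at hu hv
  have hsyl : ∀ w : X, orderOf w = ℓ → ∃ S : Sylow ℓ X, (S : Subgroup X) = Subgroup.zpowers w := by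
    intro w hw
    have hp : IsPGroup ℓ (Subgroup.zpowers w) := IsPGroup.of_card (n := 1) (by rw [Nat.card_zpowers, hw, pow_one])
    obtain ⟨S, hS⟩ := hp.exists_le_sylow
    refine ⟨S, (Subgroup.eq_of_le_of_card_ge hS ?_).symm⟩
    obtain ⟨k, hk⟩ := IsPGroup.iff_card.1 S.2
    rw [Nat.card_zpowers, hw, hk]
    by_contra hlt
    have hk2 : 2 ≤ k := by
      rcases k with - | - | k
      · rw [pow_zero] at hlt; omega
      · rw [pow_one] at hlt; omega
      · omega
    have hdvd : ℓ ^ 2 ∣ 2 * ℓ * (ℓ + 1) := by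
      have := Subgroup.card_subgroup_dvd_card (S : Subgroup X)
      rw [hk, hX] at this
      exact (pow_dvd_pow ℓ hk2).trans this
    have h' : ℓ ∣ 2 * (ℓ + 1) := by
      rw [sq, show 2 * ℓ * (ℓ + 1) = ℓ * (2 * (ℓ + 1)) by ring] at hdvd
      exact Nat.dvd_of_mul_dvd_mul_left hℓ.pos hdvd
    rcases hℓ.dvd_mul.1 h' with h | h
    · have := Nat.le_of_dvd (by norm_num) h; omega
    · have := Nat.le_of_dvd (by norm_num) ((Nat.dvd_add_right (dvd_refl ℓ)).1 h); omega
  obtain ⟨SP, hSP⟩ := hsyl _ hu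
  obtain ⟨SQ, hSQ⟩ := hsyl _ hv
  have hPC : (SP : Subgroup X) ≤ C := hSP ▸ Subgroup.zpowers_le.2 u.2
  have hQD : (SQ : Subgroup X) ≤ D := hSQ ▸ Subgroup.zpowers_le.2 v.2
  have hPcard : Nat.card SP = ℓ := by
    show Nat.card ↥(SP : Subgroup X) = ℓ
    rw [hSP, Nat.card_zpowers, hu]
  have hQcard : Nat.card SQ = ℓ := by
    show Nat.card ↥(SQ : Subgroup X) = ℓ
    rw [hSQ, Nat.card_zpowers, hv]
  -- the number of Sylow subgroups
  have hn : Nat.card (Sylow ℓ X) = ℓ + 1 := by
    have hi : (SP : Subgroup X).index = 2 * (ℓ + 1) := by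
      have h := Subgroup.card_mul_index (SP : Subgroup X)
      rw [show Nat.card ↥(SP : Subgroup X) = ℓ from hPcard, hX] at h
      exact Nat.eq_of_mul_eq_mul_left hℓ.pos (h.trans (by ring))
    have hd : Nat.card (Sylow ℓ X) ∣ 2 * (ℓ + 1) := hi ▸ SP.card_dvd_index
    have hm : Nat.card (Sylow ℓ X) % ℓ = 1 := by
      have := card_sylow_modEq_one ℓ X
      rwa [Nat.ModEq, Nat.one_mod_eq_one.2 (by omega)] at this
    have h1 : Nat.card (Sylow ℓ X) ≠ 1 := fun h => by
      haveI := (Nat.card_eq_one_iff_unique.1 h).1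
      have hle : (SP : Subgroup X) ≤ C ⊓ D := le_inf hPC (by rw [Subsingleton.elim SP SQ]; exact hQD)
      have := Subgroup.card_le_of_le hle
      rw [show Nat.card ↥(SP : Subgroup X) = ℓ from hPcard] at this
      omega
    obtain ⟨c, hc⟩ := hd
    obtain ⟨j, hj⟩ : ∃ j, Nat.card (Sylow ℓ X) = j * ℓ + 1 := by
      refine ⟨Nat.card (Sylow ℓ X) / ℓ, ?_⟩
      have := Nat.div_add_mod (Nat.card (Sylow ℓ X)) ℓ
      rw [hm, mul_comm] at this
      exact this.symm
    rw [hj] at hc h1 ⊢
    rcases j with - | j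
    · omega
    rcases c with - | c
    · omega
    rcases c with - | c
    · exfalso
      rw [zero_add, mul_one] at hc
      rcases j with - | - | j
      · omega
      · omega
      · have : 3 * ℓ ≤ (j + 1 + 1 + 1) * ℓ := Nat.mul_le_mul_right _ (by omega)
        omega
    · rcases j with - | j
      · ring
      exfalso
      have : ((j + 1 + 1) * ℓ + 1) * 2 ≤ ((j + 1 + 1) * ℓ + 1) * (c + 1 + 1) :=
        Nat.mul_le_mul_left _ (by omega)
      have : 2 * ℓ ≤ (j + 1 + 1) * ℓ := Nat.mul_le_mul_right _ (by omega)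
      omega
  have hnorm : ∀ (S : Sylow ℓ X) (E : Subgroup X), (S : Subgroup X) ≤ E → Nat.card S = ℓ →
      Nat.card E = 2 * ℓ → Subgroup.normalizer (S : Set X) = E := by
    intro S E hSE hS hE
    have hidx : ((S : Subgroup X).subgroupOf E).index = 2 := by
      have h := Subgroup.card_mul_index ((S : Subgroup X).subgroupOf E)
      rw [Nat.card_congr (Subgroup.subgroupOfEquivOfLe hSE).toEquiv, hE,
        show Nat.card ↥(S : Subgroup X) = ℓ from hS] at h
      exact Nat.eq_of_mul_eq_mul_left hℓ.pos (h.trans (by ring))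
    haveI := Subgroup.normal_of_index_eq_two hidx
    refine (Subgroup.eq_of_le_of_card_ge (H := E) (K := Subgroup.normalizer (S : Set X))
      ((Subgroup.normal_subgroupOf_iff_le_normalizer hSE).1 this) ?_).symm
    have h := Subgroup.card_mul_index (Subgroup.normalizer (S : Set X))
    rw [← S.card_eq_index_normalizer, hn, hX] at h
    rw [hE, Nat.eq_of_mul_eq_mul_right (by omega) h]
  have hNP := hnorm SP C hPC hPcard hC
  have hNQ := hnorm SQ D hQD hQcard hD
  -- `α` commutes with the conjugation action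
  have hcomm : ∀ (x : X) (R : Sylow ℓ X), α • x • R = (α x) • α • R := by
    intro x R
    rw [Sylow.smul_def, Sylow.smul_def, ← mul_smul, ← mul_smul]
    congr 1
    ext y
    simp [MulAut.mul_apply, map_mul]
  have hαP : α • SP = SP := by
    refine Sylow.ext (le_antisymm ?_ ?_)
    · rintro _ ⟨y, hy, rfl⟩
      show α y ∈ SP
      rw [hfix y (hPC hy)]
      exact hy
    · intro y hy
      exact ⟨y, hy, hfix y (hPC hy)⟩
  -- the regular orbit
  have hstab : ∀ R : Sylow ℓ X, R ≠ SP → ∀ w ∈ (SP : Subgroup X), w • R = R → w = 1 := by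
    intro R hR w hw hwR
    have hmem : w ∈ (SP : Subgroup X) ⊓ Subgroup.normalizer (R : Set X) :=
      ⟨hw, Sylow.smul_eq_iff_mem_normalizer.1 hwR⟩
    rw [IsPGroup.inf_normalizer_sylow SP.2] at hmem
    by_contra hw1
    apply hR
    have hz : Subgroup.zpowers w = (SP : Subgroup X) := by
      refine Subgroup.eq_of_le_of_card_ge (Subgroup.zpowers_le.2 hw) ?_
      rw [Nat.card_zpowers, show Nat.card ↥(SP : Subgroup X) = ℓ from hPcard]
      have hd : orderOf w ∣ ℓ := by
        rw [← hPcard, ← Subgroup.orderOf_mk w hw]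
        exact orderOf_dvd_natCard _
      rcases hℓ.eq_one_or_self_of_dvd _ hd with h | h
      · exact absurd (orderOf_eq_one_iff.1 h) hw1
      · omega
    exact Sylow.ext (SP.is_maximal' R.2 (hz ▸ Subgroup.zpowers_le.2 hmem.2))
  have hall : ∀ R : Sylow ℓ X, α • R = R := by
    intro R
    by_cases hR : R = SP
    · rw [hR, hαP]
    let T := {R' : Sylow ℓ X // R' ≠ SP}
    let f : ↥(SP : Subgroup X) → T := fun w => ⟨(w : X) • R, fun h => hR (by
      have h' := congrArg ((w : X)⁻¹ • ·) h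
      simp only [inv_smul_smul] at h'
      rw [h', Sylow.smul_eq_iff_mem_normalizer]
      exact inv_mem (Subgroup.le_normalizer w.2))⟩
    have hf : Function.Bijective f := by
      rw [Nat.bijective_iff_injective_and_card]
      refine ⟨fun w w' h => ?_, ?_⟩
      · have h' : (w : X) • R = (w' : X) • R := congrArg Subtype.val h
        have := hstab R hR ((w' : X)⁻¹ * w) (mul_mem (inv_mem w'.2) w.2)
          (by rw [mul_smul, h', inv_smul_smul])
        exact Subtype.ext (inv_mul_eq_one.1 this).symm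
      · haveI := Fintype.ofFinite (Sylow ℓ X)
        rw [show Nat.card ↥(SP : Subgroup X) = ℓ from hPcard, Nat.card_eq_fintype_card,
          Fintype.card_subtype_compl, Fintype.card_subtype_eq, ← Nat.card_eq_fintype_card, hn]
        omega
    have hRne : α • R ≠ SP := fun h => hR (by
      have h' := congrArg (α • ·) h
      simp only [← mul_smul, h2, one_smul] at h'
      rw [h', hαP])
    obtain ⟨⟨w, hw⟩, hwR⟩ := hf.2 ⟨α • R, hRne⟩
    replace hwR : w • R = α • R := congrArg Subtype.val hwR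
    have hww : (w * w) • R = R := by
      have h' := hcomm w R
      rw [hwR, ← mul_smul α α, h2, one_smul, hfix w (hPC hw), ← hwR, ← mul_smul] at h'
      exact h'.symm
    have hw2 := hstab R hR (w * w) (mul_mem hw hw) hww
    have hw1 : w = 1 := by
      have hd : orderOf w ∣ 2 := orderOf_dvd_of_pow_eq_one (by rw [pow_two]; exact hw2)
      have hd' : orderOf w ∣ ℓ := by
        rw [← hPcard, ← Subgroup.orderOf_mk w hw]
        exact orderOf_dvd_natCard _
      have hco : Nat.Coprime 2 ℓ := (Nat.coprime_primes Nat.prime_two hℓ).2 (Ne.symm hℓ2)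
      exact orderOf_eq_one_iff.1 (Nat.dvd_one.1 (hco ▸ Nat.dvd_gcd hd hd'))
    rw [← hwR, hw1, one_smul]
  refine MulEquiv.ext fun x => ?_
  have hk : ∀ R : Sylow ℓ X, (x⁻¹ * α x) • R = R := by
    intro R
    have h' := hcomm x R
    rw [hall, hall] at h'
    rw [mul_smul, ← h', inv_smul_smul]
  set K := (MulAction.toPermHom X (Sylow ℓ X)).ker with hK
  have hKmem : ∀ k, k ∈ K ↔ ∀ R : Sylow ℓ X, k • R = R := fun k => by
    rw [hK, MonoidHom.mem_ker]; exact Equiv.ext_iff
  have hKle : K ≤ C ⊓ D := fun k hk => by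
    rw [← hNP, ← hNQ]
    exact ⟨Sylow.smul_eq_iff_mem_normalizer.1 ((hKmem k).1 hk SP),
      Sylow.smul_eq_iff_mem_normalizer.1 ((hKmem k).1 hk SQ)⟩
  have hkK : x⁻¹ * α x ∈ K := (hKmem _).2 hk
  have h1 : x⁻¹ * α x = 1 := by
    refine hcen _ (hKle hkK) fun c _ => ?_
    set k := x⁻¹ * α x
    by_cases hk1 : k = 1
    · simp [hk1]
    have hconj : c * k * c⁻¹ ∈ K := MonoidHom.normal_ker _ |>.conj_mem _ hkK c
    by_contra hne
    have hne' : c * k * c⁻¹ ≠ k := fun h => hne (mul_inv_eq_iff_eq_mul.1 h).symm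
    have h3' : 3 ≤ Nat.card K := by
      have hsub : ({1, k, c * k * c⁻¹} : Set X) ⊆ K := by
        rintro y (rfl | rfl | rfl)
        exacts [one_mem _, hkK, hconj]
      have := Set.ncard_le_ncard hsub (Set.toFinite _)
      rw [Set.ncard_insert_of_notMem (by
          simp only [Set.mem_insert_iff, Set.mem_singleton_iff, not_or]
          exact ⟨Ne.symm hk1, fun h => hk1 (conj_eq_one_iff.1 h.symm)⟩),
        Set.ncard_pair hne'.symm, ← Nat.card_coe_set_eq] at this
      exact this
    have := Subgroup.card_le_of_le hKle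
    omega
  rw [MulAut.one_apply]
  exact (inv_mul_eq_one.1 h1).symm

end CfsgLib.Derangements.FourOnDihedral
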