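import Cfsg.Agent.Lib.Derangements.FourOnDihedral.PSLTwoInvolution
import Cfsg.Agent.Lib.Derangements.FourOnDihedral.SylowFix
import Cfsg.Agent.S5892

/-!
The fixed subgroups of two commuting outer involutions of `PGL₂(q)` generate `PSL₂(q)`.
-/

set_option autoImplicit false
set_option linter.unusedSectionVars false
set_option linter.style.haveILetI false

open Matrix

namespace CfsgLib.Derangements.FourOnDihedral

theorem card_mul_card_le {G : Type*} [Group G] [Finite G] (H K : Subgroup G) :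
    Nat.card H * Nat.card K ≤ Nat.card ↥(H ⊔ K) * Nat.card ↥(H ⊓ K) := by
  have h1 : Nat.card ↥(H ⊓ K) * K.relIndex H = Nat.card H := by
    rw [← Subgroup.inf_relIndex_right K H, inf_comm K H, ← Subgroup.relIndex_bot_left,
      ← Subgroup.relIndex_bot_left, Subgroup.relIndex_mul_relIndex _ _ _ bot_le inf_le_left]
  have h2 : K.relIndex H ≤ K.relIndex (H ⊔ K) :=
    Subgroup.relIndex_le_of_le_right le_sup_left Subgroup.FiniteIndex.index_ne_zero
  have h3 : Nat.card K * K.relIndex (H ⊔ K) = Nat.card ↥(H ⊔ K) := by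
    rw [← Subgroup.relIndex_bot_left, ← Subgroup.relIndex_bot_left,
      Subgroup.relIndex_mul_relIndex _ _ _ bot_le le_sup_right]
  calc Nat.card H * Nat.card K = Nat.card ↥(H ⊓ K) * K.relIndex H * Nat.card K := by rw [h1]
    _ ≤ Nat.card ↥(H ⊓ K) * K.relIndex (H ⊔ K) * Nat.card K :=
      Nat.mul_le_mul_right _ (Nat.mul_le_mul_left _ h2)
    _ = _ := by rw [← h3]; ring

theorem card_subgroup_alt_four_ne_six (H : Subgroup (alternatingGroup (Fin 4))) :
    Nat.card H ≠ 6 := by
  classical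
  intro h
  have h12 : Nat.card (alternatingGroup (Fin 4)) = 12 := by rw [Nat.card_eq_fintype_card]; decide
  have hi : H.index = 2 := by
    have := Subgroup.card_mul_index H
    rw [h, h12] at this
    omega
  have hsub : ((Finset.univ.image fun a : alternatingGroup (Fin 4) => a ^ 2) :
      Set (alternatingGroup (Fin 4))) ⊆ H := by
    intro a ha
    obtain ⟨b, -, rfl⟩ := Finset.mem_image.1 ha
    exact Subgroup.sq_mem_of_index_two hi b
  have := Set.ncard_le_ncard hsub (Set.toFinite _)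
  rw [Set.ncard_coe_finset, ← Nat.card_coe_set_eq,
    show (Finset.univ.image fun a : alternatingGroup (Fin 4) => a ^ 2).card = 9 by decide] at this
  exact absurd (this.trans h.le) (by norm_num)

theorem card_subgroup_alt_five_ne_thirty (H : Subgroup (alternatingGroup (Fin 5))) :
    Nat.card H ≠ 30 := by
  intro h
  have h60 : Nat.card (alternatingGroup (Fin 5)) = 60 := by rw [Nat.card_eq_fintype_card]; decide
  have hi : H.index = 2 := by
    have := Subgroup.card_mul_index H
    rw [h, h60] at this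
    omega
  haveI := Subgroup.normal_of_index_eq_two hi
  rcases Subgroup.Normal.eq_bot_or_eq_top (inferInstance : H.Normal) with rfl | rfl
  · rw [Subgroup.card_bot] at h; omega
  · rw [Subgroup.index_top] at hi; omega

namespace PSLTwo

open CfsgLib.ReflectionsSpinor.PSL CfsgLib.GW.PGLTwo

universe u

variable {F : Type u} [Field F] [Fintype F]

local notation "M₂" => Matrix (Fin 2) (Fin 2) F
local notation "GL₂" => GL (Fin 2) F
local notation "G₀" => Matrix.ProjectiveSpecialLinearGroup (Fin 2) F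
local notation "A" => toAutHom (n := 2) (F := F)

/-- The possible orders of a maximal subgroup with an element-order constraint. -/
theorem card_cases {q m : ℕ} (h5 : 5 ≤ q) (hm : (q % 4 = 1 ∧ m = q + 1) ∨ (q % 4 = 3 ∧ m = q - 1))
    {M : ℕ} (hdvd : m ∣ M) (hM : M + 1 = q ∨ M = q + 1) : M = m := by
  have hle := Nat.le_of_dvd (by omega) hdvd
  rcases hm with ⟨-, rfl⟩ | ⟨-, rfl⟩
  · omega
  · rcases hM with hM | hM
    · omega
    · exfalso
      have : q - 1 ∣ 2 := by
        have := Nat.dvd_sub hdvd (dvd_refl (q - 1))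
        rwa [hM, show q + 1 - (q - 1) = 2 by omega] at this
      have := Nat.le_of_dvd (by norm_num) this
      omega

theorem not_borel {q m : ℕ} (h5 : 5 ≤ q) (hm : (q % 4 = 1 ∧ m = q + 1) ∨ (q % 4 = 3 ∧ m = q - 1))
    {M : ℕ} (hdvd : m ∣ M) (hM : 2 * M = q * (q - 1)) : False := by
  have h : 2 * m ∣ q * (q - 1) := hM ▸ Nat.mul_dvd_mul_left 2 hdvd
  rcases hm with ⟨-, rfl⟩ | ⟨h3, rfl⟩
  · obtain ⟨j, rfl⟩ : ∃ j, q = j + 2 := ⟨q - 2, by omega⟩
    have h' : j + 2 + 1 ∣ (j + 3) * j + 2 := by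
      have := (Dvd.intro_left 2 rfl).trans h
      rwa [show (j + 2) * (j + 2 - 1) = (j + 3) * j + 2 by
        rw [show j + 2 - 1 = j + 1 by omega]; ring] at this
    have := (Nat.dvd_add_right (Dvd.intro j rfl : j + 3 ∣ (j + 3) * j)).1 h'
    have := Nat.le_of_dvd (by norm_num) this
    omega
  · have := Nat.dvd_of_mul_dvd_mul_right (by omega : 0 < q - 1) h
    omega

theorem dvd_sq_sub_one {q m q₀ r : ℕ} (hm : (q % 4 = 1 ∧ m = q + 1) ∨ (q % 4 = 3 ∧ m = q - 1))
    (hq : q = q₀ ^ r) (hr : r ≠ 0) {M : ℕ} (hdvd : m ∣ M) (hM : M ∣ q₀ * (q₀ ^ 2 - 1)) :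
    m ∣ q₀ ^ 2 - 1 := by
  refine Nat.Coprime.dvd_of_dvd_mul_left ?_ (hdvd.trans hM)
  refine Nat.Coprime.coprime_dvd_right (hq ▸ dvd_pow_self q₀ hr : q₀ ∣ q) ?_
  rcases hm with ⟨h4, rfl⟩ | ⟨h4, rfl⟩
  · exact Nat.coprime_self_add_left.2 (Nat.coprime_one_left q)
  · exact Nat.Coprime.symm ((Nat.coprime_self_sub_right (by omega)).2 (Nat.coprime_one_right q))

set_option maxHeartbeats 1000000 in
theorem sup_fixed_eq_top (h2 : (2 : F) ≠ 0) (h3 : 3 < Fintype.card F) {g h : GL₂}
    (hg : (g : M₂).trace = 0) (hh : (h : M₂).trace = 0)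
    (hgs : ¬ IsSquare (g : M₂).det) (hhs : ¬ IsSquare (h : M₂).det) (hne : A g ≠ A h)
    (hc : A h * A g = A g * A h) :
    fixedSub (H := G₀) (A g) ⊔ fixedSub (H := G₀) (A h) = ⊤ := by
  classical
  obtain ⟨p, hp⟩ := CharP.exists F
  haveI : Fact p.Prime :=
    ⟨(CharP.char_is_prime_or_zero F p).resolve_right (CharP.char_ne_zero_of_finite F p)⟩
  set C := fixedSub (H := G₀) (A g) with hCdef
  set D := fixedSub (H := G₀) (A h) with hDdef
  have hodd : Fintype.card F % 2 = 1 := FiniteField.odd_card_of_char_ne_two fun h => by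
    haveI : CharP F 2 := ringChar.of_eq h
    exact h2 (CharTwo.two_eq_zero)
  have h5 : 5 ≤ Fintype.card F := by omega
  set q := Fintype.card F with hq
  obtain ⟨m, hCm, hDm, hm⟩ : ∃ m, Nat.card C = m ∧ Nat.card D = m ∧
      ((q % 4 = 1 ∧ m = q + 1) ∨ (q % 4 = 3 ∧ m = q - 1)) := by
    refine ⟨_, card_fixedSub h2 h3 hg hgs, card_fixedSub h2 h3 hh hhs, ?_⟩
    split_ifs with h4
    · exact Or.inl ⟨h4, rfl⟩
    · exact Or.inr ⟨by omega, rfl⟩
  have hinter : Nat.card ↥(C ⊓ D) ≤ 2 := card_fixed_inter_le h2 h3 hg hh hgs hhs hne hc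
  have hm6 : 6 ≤ m ∧ m % 4 = 2 := by omega
  have hCneD : C ≠ D := fun e => by rw [← e, inf_idem, hCm] at hinter; omega
  by_contra htop
  obtain ⟨M, hM, hXM⟩ := (eq_top_or_exists_le_coatom (C ⊔ D)).resolve_left htop
  have hCM : C ≤ M := le_sup_left.trans hXM
  have hDM : D ≤ M := le_sup_right.trans hXM
  have hdvd : m ∣ Nat.card M := hCm ▸ Subgroup.card_dvd_of_le hCM
  have eqM : Nat.card M = m → False := fun e => hCneD <|
    (Subgroup.eq_of_le_of_card_ge hCM (by omega)).trans
      (Subgroup.eq_of_le_of_card_ge hDM (by omega)).symm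
  -- the exceptional orders
  have small : ∀ ℓ : ℕ, ℓ.Prime → ℓ ≠ 2 → m = 2 * ℓ →
      Nat.card ↥(C ⊔ D) = 2 * ℓ * (ℓ + 1) → False := by
    intro ℓ hℓ hℓ2 hmℓ hX
    set X := C ⊔ D with hXdef
    have hα : ∀ x ∈ X, (A g : MulAut G₀) x ∈ X := by
      intro x hx
      have : X.map (A g : MulAut G₀).toMonoidHom ≤ X := by
        rw [hXdef, Subgroup.map_sup]
        refine sup_le (le_sup_of_le_left ?_) (le_sup_of_le_right ?_)
        · rintro _ ⟨y, hy, rfl⟩
          show (A g : MulAut G₀) y ∈ C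
          rw [mem_fixedSub.1 hy]; exact hy
        · rintro _ ⟨y, hy, rfl⟩
          show (A h : MulAut G₀) ((A g : MulAut G₀) y) = (A g : MulAut G₀) y
          rw [← MulAut.mul_apply, hc, MulAut.mul_apply, mem_fixedSub.1 hy]
      exact this ⟨x, hx, rfl⟩
    have hgg : A g * A g = 1 := mul_self_of_orderOf ((orderOf_A_iff h2).2 hg)
    have hinv : ∀ x, (A g : MulAut G₀) ((A g : MulAut G₀) x) = x := fun x => by
      rw [← MulAut.mul_apply, hgg, MulAut.one_apply]
    let α' : MulAut ↥X :=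
      { toFun := fun x => ⟨(A g : MulAut G₀) x.1, hα _ x.2⟩
        invFun := fun x => ⟨(A g : MulAut G₀) x.1, hα _ x.2⟩
        left_inv := fun x => Subtype.ext (hinv _)
        right_inv := fun x => Subtype.ext (hinv _)
        map_mul' := fun x y => Subtype.ext (map_mul (A g : MulAut G₀) x.1 y.1) }
    have hC' : Nat.card (C.subgroupOf X) = 2 * ℓ := by
      rw [Nat.card_congr (Subgroup.subgroupOfEquivOfLe le_sup_left).toEquiv, hCm, hmℓ]
    have hD' : Nat.card (D.subgroupOf X) = 2 * ℓ := by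
      rw [Nat.card_congr (Subgroup.subgroupOfEquivOfLe le_sup_right).toEquiv, hDm, hmℓ]
    have hI' : Nat.card ↥(C.subgroupOf X ⊓ D.subgroupOf X) ≤ 2 := by
      refine le_trans (le_of_eq ?_) hinter
      rw [show C.subgroupOf X ⊓ D.subgroupOf X = (C ⊓ D).subgroupOf X from (Subgroup.comap_inf _ _ _).symm]
      exact Nat.card_congr (Subgroup.subgroupOfEquivOfLe (inf_le_left.trans le_sup_left)).toEquiv
    have hone := eq_one_of_fixed_half hℓ hℓ2 (C.subgroupOf X) (D.subgroupOf X) hC' hD' hI' hX α'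
      (MulEquiv.ext fun x => Subtype.ext (hinv _)) (fun x hx => Subtype.ext hx) (by
        rintro ⟨k, hkX⟩ ⟨hkC, hkD⟩ hk
        by_contra hk1
        have hle := fixed_le_of_central h2 h3 hg hh hgs hhs hne hc (k := k) hkC hkD
          (fun e => hk1 (Subtype.ext e)) (fun c hcg =>
            congrArg Subtype.val (hk ⟨c, (le_sup_left : C ≤ X) hcg⟩ hcg))
        exact hCneD (Subgroup.eq_of_le_of_card_ge hle (by omega)))
    have hXC : X ≤ C := fun x hx =>
      mem_fixedSub.2 (congrArg Subtype.val (DFunLike.congr_fun hone ⟨x, hx⟩))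
    have := Subgroup.card_le_of_le hXC
    rw [hX, hCm, hmℓ] at this
    have : 2 * ℓ * 2 ≤ 2 * ℓ * (ℓ + 1) := Nat.mul_le_mul_left _ (by have := hℓ.two_le; omega)
    have := hℓ.two_le
    omega
  have hXlow : m * m ≤ Nat.card ↥(C ⊔ D) * 2 := by
    calc m * m = Nat.card C * Nat.card D := by rw [hCm, hDm]
      _ ≤ _ := card_mul_card_le C D
      _ ≤ _ := Nat.mul_le_mul_left _ hinter
  have hXd : Nat.card ↥(C ⊔ D) ∣ Nat.card M := Subgroup.card_dvd_of_le hXM
  have hmX : m ∣ Nat.card ↥(C ⊔ D) := hCm ▸ Subgroup.card_dvd_of_le le_sup_left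
  rcases Cfsg.Agent.S5892.result p (Nat.odd_iff.2 hodd) h5 M hM with
    hB | ⟨-, k, hk, ⟨e⟩⟩ | ⟨-, -, k, hk, ⟨e⟩⟩ | ⟨F₀, iF, iT, hq₀, ⟨e⟩⟩ |
    ⟨F₀, iF, iT, r, hr, hrodd, hq₀, ⟨e⟩⟩ | ⟨h10, -, ⟨e⟩⟩ | ⟨-, -, -, ⟨e⟩⟩ | ⟨-, -, ⟨e⟩⟩
  · exact not_borel h5 hm hdvd hB
  · exact eqM (card_cases h5 hm hdvd (by rw [Nat.card_congr e.toEquiv, DihedralGroup.nat_card]; omega))
  · exact eqM (card_cases h5 hm hdvd (by rw [Nat.card_congr e.toEquiv, DihedralGroup.nat_card]; omega))
  · letI := iF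
    letI := iT
    have hM' : Nat.card M = Fintype.card F₀ * (Fintype.card F₀ ^ 2 - 1) := by
      rw [Nat.card_congr e.toEquiv, CfsgLib.ClassicalLinear.card_PGL,
        CfsgLib.ClassicalLinear.card_SL_two rfl]
    have h' := dvd_sq_sub_one hm hq₀ two_ne_zero hdvd hM'.dvd
    have h1 : 1 < Fintype.card F₀ := Fintype.one_lt_card
    have h1' : 4 ≤ Fintype.card F₀ ^ 2 := by
      calc 4 = 2 ^ 2 := rfl
        _ ≤ _ := Nat.pow_le_pow_left h1 2
    have := Nat.le_of_dvd (by omega) h'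
    have hne3 : Fintype.card F₀ ^ 2 % 4 ≠ 3 := by
      rw [Nat.pow_mod]
      have := Nat.mod_lt (Fintype.card F₀) (show 0 < 4 by norm_num)
      interval_cases Fintype.card F₀ % 4 <;> omega
    rw [← hq] at hq₀
    omega
  · letI := iF
    letI := iT
    have hM' : Nat.card M ∣ Fintype.card F₀ * (Fintype.card F₀ ^ 2 - 1) := by
      rw [Nat.card_congr e.toEquiv, ← CfsgLib.ClassicalLinear.card_SL_two rfl]
      exact Subgroup.card_quotient_dvd_card _
    have h' := dvd_sq_sub_one hm hq₀ hr.ne_zero hdvd hM'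
    have h1 : 1 < Fintype.card F₀ := Fintype.one_lt_card
    have hr3 : 3 ≤ r := by
      obtain ⟨k, rfl⟩ := hrodd
      have := hr.two_le
      omega
    have h1' : 4 ≤ Fintype.card F₀ ^ 2 := by
      calc 4 = 2 ^ 2 := rfl
        _ ≤ _ := Nat.pow_le_pow_left h1 2
    have h1'' : Fintype.card F₀ ^ 2 * 2 ≤ Fintype.card F₀ ^ r :=
      calc _ ≤ Fintype.card F₀ ^ 2 * Fintype.card F₀ := Nat.mul_le_mul_left _ h1
        _ = Fintype.card F₀ ^ 3 := (pow_succ _ _).symm
        _ ≤ _ := Nat.pow_le_pow_right (by omega) hr3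
    have := Nat.le_of_dvd (by omega) h'
    rw [← hq] at hq₀
    omega
  · have hMc : Nat.card M = 60 := by
      rw [Nat.card_congr e.toEquiv, Nat.card_eq_fintype_card]; decide
    rw [hMc] at hdvd hXd
    have hmle := Nat.le_of_dvd (by norm_num) hdvd
    rw [← hq] at h10
    have hcases : m = 10 ∨ m = 30 := by
      interval_cases m <;> omega
    rcases hcases with rfl | rfl
    · refine small 5 (by norm_num) (by norm_num) rfl ?_
      have hle := Nat.le_of_dvd (by norm_num) hXd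
      interval_cases hX : Nat.card ↥(C ⊔ D) <;> omega
    · refine card_subgroup_alt_five_ne_thirty ((C.subgroupOf M).map e.toMonoidHom) ?_
      rw [Subgroup.card_map_of_injective e.injective,
        Nat.card_congr (Subgroup.subgroupOfEquivOfLe hCM).toEquiv, hCm]
  · have hMc : Nat.card M = 12 := by
      rw [Nat.card_congr e.toEquiv, Nat.card_eq_fintype_card]; decide
    rw [hMc] at hdvd
    have hmle := Nat.le_of_dvd (by norm_num) hdvd
    have h6 : m = 6 := by interval_cases m <;> omega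
    refine card_subgroup_alt_four_ne_six ((C.subgroupOf M).map e.toMonoidHom) ?_
    rw [Subgroup.card_map_of_injective e.injective,
      Nat.card_congr (Subgroup.subgroupOfEquivOfLe hCM).toEquiv, hCm, h6]
  · have hMc : Nat.card M = 24 := by
      rw [Nat.card_congr e.toEquiv, Nat.card_eq_fintype_card]; decide
    rw [hMc] at hdvd hXd
    have hmle := Nat.le_of_dvd (by norm_num) hdvd
    have h6 : m = 6 := by interval_cases m <;> omega
    subst h6
    refine small 3 Nat.prime_three (by norm_num) rfl ?_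
    have hle := Nat.le_of_dvd (by norm_num) hXd
    interval_cases hX : Nat.card ↥(C ⊔ D) <;> omega

end PSLTwo

end CfsgLib.Derangements.FourOnDihedral
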