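import Cfsg.Agent.Lib.Derangements.FourOnDihedral.Generation
import Cfsg.Agent.Lib.GWApps.Structure
import Cfsg.Agent.Lib.Signalizer.UniqueInvolution
import Cfsg.Agent.S2119

/-!
Two commuting involutions acting on a simple group with dihedral Sylow 2-subgroups (S1916).
-/

set_option autoImplicit false
set_option linter.unusedSectionVars false
set_option linter.style.haveILetI false

namespace CfsgLib.Derangements.FourOnDihedral

universe u

/-- A subgroup with cyclic Sylow 2-subgroups contains no two commuting involutions. -/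
theorem eq_of_commute_of_cyclic_sylow {C : Type*} [Group C] [Finite C]
    (hcyc : ∀ R : Sylow 2 C, IsCyclic R) {x y : C} (hx : orderOf x = 2) (hy : orderOf y = 2)
    (hc : x * y = y * x) : x = y := by
  classical
  have hxx : x * x = 1 := by have := pow_orderOf_eq_one x; rwa [hx, pow_two] at this
  have hyy : y * y = 1 := by have := pow_orderOf_eq_one y; rwa [hy, pow_two] at this
  have hsq : ∀ z ∈ Subgroup.closure ({x, y} : Set C), Commute z x ∧ Commute z y ∧ z * z = 1 := by
    intro z hz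
    induction hz using Subgroup.closure_induction with
    | mem z hz =>
      rcases hz with rfl | rfl
      · exact ⟨Commute.refl _, hc, hxx⟩
      · exact ⟨hc.symm, Commute.refl _, hyy⟩
    | one => exact ⟨Commute.one_left _, Commute.one_left _, one_mul 1⟩
    | mul a b ha hb iha ihb =>
      refine ⟨iha.1.mul_left ihb.1, iha.2.1.mul_left ihb.2.1, ?_⟩
      have hab : Commute a b := by
        suffices ∀ w ∈ Subgroup.closure ({x, y} : Set C), Commute a w from this b hb
        intro w hw
        induction hw using Subgroup.closure_induction with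
        | mem w hw => rcases hw with rfl | rfl; exacts [iha.1, iha.2.1]
        | one => exact Commute.one_right _
        | mul _ _ _ _ h h' => exact h.mul_right h'
        | inv _ _ h => exact h.inv_right
      rw [mul_mul_mul_comm_of_commute hab, iha.2.2, ihb.2.2, one_mul]
    | inv a _ iha => exact ⟨iha.1.inv_left, iha.2.1.inv_left, by rw [← mul_inv_rev, iha.2.2, inv_one]⟩
  have hp : IsPGroup 2 (Subgroup.closure ({x, y} : Set C)) := fun z =>
    ⟨1, Subtype.ext (by rw [pow_one, pow_two]; exact (hsq z z.2).2.2)⟩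
  obtain ⟨R, hR, hRc⟩ : ∃ R : Subgroup C, Subgroup.closure ({x, y} : Set C) ≤ R ∧ IsCyclic R := by
    obtain ⟨S, hS⟩ := hp.exists_le_sylow
    exact ⟨S, hS, hcyc S⟩
  haveI := Fintype.ofFinite R
  by_contra hne
  have h2 := IsCyclic.card_pow_eq_one_le (α := R) (n := 2) (by norm_num)
  have hxR : x ∈ R := hR (Subgroup.subset_closure (by simp))
  have hyR : y ∈ R := hR (Subgroup.subset_closure (by simp))
  have h3 : ({1, ⟨x, hxR⟩, ⟨y, hyR⟩} : Finset R).card = 3 := by
    have hx1 : x ≠ 1 := fun h => by rw [h, orderOf_one] at hx; omega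
    have hy1 : y ≠ 1 := fun h => by rw [h, orderOf_one] at hy; omega
    rw [Finset.card_insert_of_notMem, Finset.card_pair]
    · exact fun h => hne (congrArg Subtype.val h)
    · simp only [Finset.mem_insert, Finset.mem_singleton, not_or]
      exact ⟨fun h => hx1 (congrArg Subtype.val h).symm, fun h => hy1 (congrArg Subtype.val h).symm⟩
  have hle := Finset.card_le_card (s := ({1, ⟨x, hxR⟩, ⟨y, hyR⟩} : Finset R))
    (t := Finset.univ.filter fun z : R => z ^ 2 = 1) (fun z hz => by
      simp only [Finset.mem_insert, Finset.mem_singleton] at hz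
      refine Finset.mem_filter.2 ⟨Finset.mem_univ _, ?_⟩
      rcases hz with rfl | rfl | rfl
      · exact one_pow 2
      · exact Subtype.ext (by simpa [pow_two] using hxx)
      · exact Subtype.ext (by simpa [pow_two] using hyy))
  have h2' : (Finset.univ.filter fun z : R => z ^ 2 = 1).card ≤ 2 := by convert h2
  omega
where
  mul_mul_mul_comm_of_commute {C : Type _} [Group C] {a b : C} (h : Commute a b) :
      a * b * (a * b) = a * a * (b * b) := by
    rw [mul_assoc, ← mul_assoc b a b, ← h.eq, mul_assoc a b b, ← mul_assoc]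

section Transfer

variable {G H : Type*} [Group G] [Group H] (e : G ≃* H)

theorem hasFour_of_congr {φ : MulAut G} (h : HasFour (MulAut.congr e φ)) : HasFour φ := by
  obtain ⟨x, y, hx, hy, hne, hc, fx, fy⟩ := h
  refine ⟨e.symm x, e.symm y, (e.symm.orderOf_eq x).trans hx, (e.symm.orderOf_eq y).trans hy,
    fun h => hne (e.symm.injective h), by rw [← map_mul, hc, map_mul], ?_, ?_⟩
  · exact e.injective (fx.trans (e.apply_symm_apply x).symm)
  · exact e.injective (fy.trans (e.apply_symm_apply y).symm)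

theorem sup_eq_top_of_congr {φ ψ : MulAut G}
    (h : fixedSub (MulAut.congr e φ) ⊔ fixedSub (MulAut.congr e ψ) = ⊤) :
    fixedSub φ ⊔ fixedSub ψ = ⊤ := by
  have key : ∀ χ : MulAut G, fixedSub (MulAut.congr e χ) ≤ (fixedSub χ).map e.toMonoidHom :=
    fun χ x hx => ⟨e.symm x, mem_fixedSub.2 (e.injective
      ((mem_fixedSub.1 hx).trans (e.apply_symm_apply x).symm)), e.apply_symm_apply x⟩
  refine Subgroup.map_injective (f := e.toMonoidHom) e.injective ?_
  rw [Subgroup.map_top_of_surjective _ e.surjective, eq_top_iff, ← h, Subgroup.map_sup]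
  exact sup_le_sup (key φ) (key ψ)

end Transfer

/-- Every involutory automorphism of `A₇` fixes a four-group. -/
theorem hasFour_alt_seven (φ : MulAut (alternatingGroup (Fin 7))) (hφ : orderOf φ = 2) :
    HasFour φ := by
  classical
  obtain ⟨hinj, hsurj⟩ := Cfsg.Agent.S2119.result 7 (by norm_num) (by norm_num)
  obtain ⟨τ, rfl⟩ := hsurj φ
  have hτ : orderOf τ = 2 := (orderOf_injective _ hinj τ).symm.trans hφ
  obtain ⟨k, hk⟩ := Equiv.Perm.cycleType_prime_order (σ := τ) (hτ ▸ Nat.prime_two)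
  rw [hτ] at hk
  have hk3 : k ≤ 2 := by
    have h7 := τ.sum_cycleType
    rw [hk, Multiset.sum_replicate, smul_eq_mul] at h7
    have := τ.support.card_le_univ
    rw [Fintype.card_fin] at this
    omega
  have wit : ∀ (ρ x y : Equiv.Perm (Fin 7)),
      Equiv.Perm.sign x = 1 → Equiv.Perm.sign y = 1 → x * x = 1 → y * y = 1 → x ≠ 1 → y ≠ 1 →
      x ≠ y → x * y = y * x → ρ * x = x * ρ → ρ * y = y * ρ → ρ.cycleType = τ.cycleType →
      HasFour (MulAut.conjNormal τ : MulAut (alternatingGroup (Fin 7))) := by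
    intro ρ x y sx sy xx yy x1 y1 xy cxy cρx cρy hct
    obtain ⟨c, hc⟩ := isConj_iff.1 (Equiv.Perm.isConj_iff_cycleType_eq.2 hct)
    rw [← hc, map_mul, map_mul, map_inv]
    refine HasFour.conj ⟨⟨x, Equiv.Perm.mem_alternatingGroup.2 sx⟩,
      ⟨y, Equiv.Perm.mem_alternatingGroup.2 sy⟩, ?_, ?_, fun h => xy (congrArg Subtype.val h),
      Subtype.ext cxy, Subtype.ext ?_, Subtype.ext ?_⟩ _
    · rw [← Subgroup.orderOf_coe]
      exact orderOf_eq_prime (by rw [pow_two]; exact xx) x1
    · rw [← Subgroup.orderOf_coe]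
      exact orderOf_eq_prime (by rw [pow_two]; exact yy) y1
    · rw [MulAut.conjNormal_apply, mul_inv_eq_iff_eq_mul]; exact cρx
    · rw [MulAut.conjNormal_apply, mul_inv_eq_iff_eq_mul]; exact cρy
  have c2 : ∀ {a b : Fin 7}, a ≠ b → (Equiv.swap a b).cycleType = {2} := fun h => by
    rw [(Equiv.Perm.isCycle_swap h).cycleType, Equiv.Perm.card_support_swap h]
  rcases (by omega : k = 0 ∨ k = 1 ∨ k = 2) with rfl | rfl | rfl
  · refine wit (Equiv.swap 0 1) (Equiv.swap 2 3 * Equiv.swap 4 5) (Equiv.swap 2 4 * Equiv.swap 3 5)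
      (by decide) (by decide) (by decide) (by decide) (by decide) (by decide) (by decide) (by decide)
      (by decide) (by decide) ?_
    rw [hk, c2 (by decide)]; rfl
  · refine wit (Equiv.swap 0 1 * Equiv.swap 2 3) (Equiv.swap 0 1 * Equiv.swap 2 3)
      (Equiv.swap 0 2 * Equiv.swap 1 3)
      (by decide) (by decide) (by decide) (by decide) (by decide) (by decide) (by decide) (by decide)
      (by decide) (by decide) ?_
    rw [hk, Equiv.Perm.Disjoint.cycleType_mul (fun x => by revert x; decide), c2 (by decide),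
      c2 (by decide)]; rfl
  · refine wit (Equiv.swap 0 1 * Equiv.swap 2 3 * Equiv.swap 4 5)
      (Equiv.swap 0 1 * Equiv.swap 2 3) (Equiv.swap 0 1 * Equiv.swap 4 5)
      (by decide) (by decide) (by decide) (by decide) (by decide) (by decide) (by decide) (by decide)
      (by decide) (by decide) ?_
    rw [hk, Equiv.Perm.Disjoint.cycleType_mul (fun x => by revert x; decide),
      Equiv.Perm.Disjoint.cycleType_mul (fun x => by revert x; decide), c2 (by decide),
      c2 (by decide), c2 (by decide)]; rfl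

/-- The generation theorem for `PSL₂(q)` and `A₇`. -/
theorem sup_fixed_eq_top {X : Type*} [Group X] (hX : CfsgLib.GW.IsGWGroup X) (α β : MulAut X)
    (ha : orderOf α = 2) (hb : orderOf β = 2) (hc : α * β = β * α) (hne : α ≠ β)
    (hfa : ¬ HasFour α) (hfb : ¬ HasFour β) : fixedSub α ⊔ fixedSub β = ⊤ := by
  rcases hX with ⟨F, iF, iT, hodd, h3, ⟨e⟩⟩ | ⟨⟨e⟩⟩
  swap
  · exact absurd (hasFour_of_congr e (hasFour_alt_seven _
      (((MulAut.congr e).orderOf_eq α).trans ha))) hfa
  letI := iF
  letI := iT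
  have h2 : (2 : F) ≠ 0 := by
    refine Ring.two_ne_zero fun h => ?_
    have := FiniteField.even_card_iff_char_two.1 h
    rw [Nat.odd_iff] at hodd
    omega
  set α' := MulAut.congr e α with hα
  set β' := MulAut.congr e β with hβ
  obtain ⟨g, hg, hgs, hgα⟩ := PSLTwo.exists_matrix h2 h3 α'
    (((MulAut.congr e).orderOf_eq α).trans ha) (fun h => hfa (hasFour_of_congr e h))
  obtain ⟨h, hh, hhs, hhβ⟩ := PSLTwo.exists_matrix h2 h3 β'
    (((MulAut.congr e).orderOf_eq β).trans hb) (fun h => hfb (hasFour_of_congr e h))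
  refine sup_eq_top_of_congr e ?_
  rw [← hα, ← hβ, hgα, hhβ]
  refine PSLTwo.sup_fixed_eq_top h2 h3 hg hh hgs hhs ?_ ?_
  · rw [← hgα, ← hhβ]
    exact fun e' => hne ((MulAut.congr e).injective e')
  · rw [← hgα, ← hhβ, hα, hβ, ← map_mul, ← map_mul, hc]

/-- S1916, given the Gorenstein–Walter theorem. -/
theorem product_centralizes (hGW : CfsgLib.GWApps.GWHyp.{u}) {G : Type u} [Group G] [Finite G]
    (L : Subgroup G) (hL : IsSimpleGroup L) (hLn : ¬ IsMulCommutative L)
    (hD : ∀ P : Sylow 2 L, ∃ n : ℕ, Nonempty (↥(P : Subgroup L) ≃* DihedralGroup n))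
    (a b : G) (ha : orderOf a = 2) (hb : orderOf b = 2) (hc : a * b = b * a)
    (haL : a ∈ Subgroup.normalizer (L : Set G)) (hbL : b ∈ Subgroup.normalizer (L : Set G))
    (hCa : ∀ R : Sylow 2 ↥(L ⊓ Subgroup.centralizer ({a} : Set G)), IsCyclic R)
    (hCb : ∀ R : Sylow 2 ↥(L ⊓ Subgroup.centralizer ({b} : Set G)), IsCyclic R)
    (hgen : ¬ L ≤ Subgroup.closure ({a, b} : Set G) ⊔ (L ⊓ Subgroup.centralizer ({a} : Set G)) ⊔
      (L ⊓ Subgroup.centralizer ({b} : Set G))) :
    a * b ∈ Subgroup.centralizer (L : Set G) := by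
  classical
  haveI := hL
  haveI : Fact (Nat.Prime 2) := ⟨Nat.prime_two⟩
  have hperf : commutator L = ⊤ := (Subgroup.Normal.eq_bot_or_eq_top inferInstance).resolve_left
    fun h => hLn ⟨⟨fun x y => by
      have := Subgroup.commutator_mem_commutator (Subgroup.mem_top x) (Subgroup.mem_top y)
      rw [← commutator_def, h, Subgroup.mem_bot, commutatorElement_eq_one_iff_mul_comm] at this
      exact this⟩⟩
  -- the Sylow 2-subgroups are dihedral and not cyclic
  obtain ⟨P⟩ := (inferInstance : Nonempty (Sylow 2 L))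
  obtain ⟨n, ⟨eP⟩⟩ := hD P
  haveI : NeZero n := ⟨fun h => by
    subst h
    haveI := Finite.of_equiv _ eP.toEquiv
    exact not_finite (DihedralGroup 0)⟩
  have heven : Even (Nat.card L) := by
    have := Subgroup.card_subgroup_dvd_card (P : Subgroup L)
    rw [Nat.card_congr eP.toEquiv, DihedralGroup.nat_card] at this
    exact even_iff_two_dvd.2 ((Dvd.intro n rfl).trans this)
  have hnc : ∀ Q : Sylow 2 L, ¬ IsCyclic Q :=
    CfsgLib.Signalizer.not_isCyclic_sylow hperf heven
  have hn2 : 2 ≤ n := by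
    by_contra hlt
    obtain rfl : n = 1 := by have := NeZero.ne n; omega
    refine hnc P ?_
    haveI : IsCyclic (DihedralGroup 1) := isCyclic_of_prime_card (p := 2)
      (by rw [DihedralGroup.nat_card])
    exact isCyclic_of_surjective eP.symm.toMonoidHom eP.symm.surjective
  haveI : Group.IsPerfect L := ⟨hperf⟩
  have hcore : Cfsg.oddCore L = ⊥ := by
    haveI := CfsgLib.Cores.pPrimeCore_characteristic 2 L
    refine (Subgroup.Normal.eq_bot_or_eq_top inferInstance).resolve_right fun h => ?_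
    have hodd := CfsgLib.Cores.pPrimeCore_eq_top_iff.1 h
    rw [Nat.coprime_comm, Nat.coprime_two_left, ← Nat.not_even_iff_odd] at hodd
    exact hodd heven
  have hgw : CfsgLib.GW.IsGWGroup L :=
    CfsgLib.GW.IsGWGroup.of_equiv
      ((QuotientGroup.quotientMulEquivOfEq hcore).trans QuotientGroup.quotientBot).symm
      (hGW L ⟨P, n, hn2, ⟨eP⟩⟩)
  -- the two actions
  set f := L.normalizerMonoidHom with hf
  set α := f ⟨a, haL⟩ with hα
  set β := f ⟨b, hbL⟩ with hβ
  have hval : ∀ (c : G) (hcL : c ∈ Subgroup.normalizer (L : Set G)) (x : L),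
      ((f ⟨c, hcL⟩ x : L) : G) = c * x * c⁻¹ := fun c hcL x => rfl
  have hfix : ∀ (c : G) (hcL : c ∈ Subgroup.normalizer (L : Set G)) (x : L),
      f ⟨c, hcL⟩ x = x ↔ (x : G) ∈ L ⊓ Subgroup.centralizer ({c} : Set G) := fun c hcL x => by
    rw [Subtype.ext_iff, hval, Subgroup.mem_inf, and_iff_right x.2,
      Subgroup.mem_centralizer_singleton_iff, mul_inv_eq_iff_eq_mul, eq_comm]
  have hord : ∀ (c : G) (hcL : c ∈ Subgroup.normalizer (L : Set G)), orderOf c = 2 →
      (∀ R : Sylow 2 ↥(L ⊓ Subgroup.centralizer ({c} : Set G)), IsCyclic R) →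
      orderOf (f ⟨c, hcL⟩) = 2 ∧ ¬ HasFour (f ⟨c, hcL⟩) := by
    intro c hcL hc2 hcyc
    refine ⟨orderOf_eq_prime ?_ fun h1 => ?_, ?_⟩
    · rw [← map_pow]
      convert map_one f
      refine Subtype.ext ?_
      have := pow_orderOf_eq_one c
      rwa [hc2] at this
    · have hle : L ⊓ Subgroup.centralizer ({c} : Set G) = L :=
        inf_eq_left.2 fun x hx => ((hfix c hcL ⟨x, hx⟩).1 (by rw [h1]; rfl)).2
      rw [hle] at hcyc
      exact hnc P (hcyc P)
    · rintro ⟨x, y, hx, hy, hne, hxy, fx, fy⟩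
      have hx' := (hfix c hcL x).1 fx
      have hy' := (hfix c hcL y).1 fy
      refine hne (Subtype.ext (congrArg Subtype.val (eq_of_commute_of_cyclic_sylow hcyc
        (x := ⟨x, hx'⟩) (y := ⟨y, hy'⟩) ?_ ?_ ?_) :))
      · rw [← Subgroup.orderOf_coe]; exact (Subgroup.orderOf_coe x).trans hx
      · rw [← Subgroup.orderOf_coe]; exact (Subgroup.orderOf_coe y).trans hy
      · exact Subtype.ext (congrArg Subtype.val hxy :)
  obtain ⟨hαo, hαf⟩ := hord a haL ha hCa
  obtain ⟨hβo, hβf⟩ := hord b hbL hb hCb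
  have hαβ : α * β = β * α := by
    rw [hα, hβ, ← map_mul, ← map_mul]
    exact congrArg f (Subtype.ext hc)
  by_cases heq : α = β
  · have h1 : f (⟨a, haL⟩ * ⟨b, hbL⟩) = 1 := by
      rw [map_mul, ← hα, ← hβ, heq, hβ]
      have := pow_orderOf_eq_one (f ⟨b, hbL⟩)
      rwa [hβo, pow_two] at this
    refine Subgroup.mem_centralizer_iff.2 fun x hx => ?_
    have hab : ((f ⟨a * b, mul_mem haL hbL⟩ ⟨x, hx⟩ : L) : G) = x := by
      rw [show (⟨a * b, mul_mem haL hbL⟩ : ↥(Subgroup.normalizer (L : Set G))) =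
        ⟨a, haL⟩ * ⟨b, hbL⟩ from rfl, h1, MulAut.one_apply]
    rw [hval, mul_inv_eq_iff_eq_mul] at hab
    exact hab.symm
  exfalso
  refine hgen fun x hx => ?_
  have htop := sup_fixed_eq_top hgw α β hαo hβo hαβ heq hαf hβf
  have hmap : (fixedSub α ⊔ fixedSub β).map L.subtype ≤
      (L ⊓ Subgroup.centralizer ({a} : Set G)) ⊔ (L ⊓ Subgroup.centralizer ({b} : Set G)) := by
    rw [Subgroup.map_sup]
    refine sup_le_sup ?_ ?_
    · rintro _ ⟨y, hy, rfl⟩
      exact (hfix a haL y).1 (mem_fixedSub.1 hy)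
    · rintro _ ⟨y, hy, rfl⟩
      exact (hfix b hbL y).1 (mem_fixedSub.1 hy)
  have hxm : x ∈ (fixedSub α ⊔ fixedSub β).map L.subtype := by
    rw [htop]; exact ⟨⟨x, hx⟩, trivial, rfl⟩
  have hle : (L ⊓ Subgroup.centralizer ({a} : Set G)) ⊔ (L ⊓ Subgroup.centralizer ({b} : Set G)) ≤
      Subgroup.closure ({a, b} : Set G) ⊔ (L ⊓ Subgroup.centralizer ({a} : Set G)) ⊔
        (L ⊓ Subgroup.centralizer ({b} : Set G)) := sup_le_sup le_sup_right le_rfl
  exact hle (hmap hxm)

end CfsgLib.Derangements.FourOnDihedral
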