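import Cfsg.Agent.Lib.ReflectionsSpinor.PSLFieldAut
import Cfsg.Agent.Lib.GW.PGLTwoCent
import Cfsg.Agent.Lib.ClassicalLinear.Simple

/-!
Involutory automorphisms of `PSL₂(q)`, `q` odd, fixing no four-group.
-/

set_option autoImplicit false
set_option linter.unusedSectionVars false
set_option linter.style.haveILetI false

open Matrix

namespace CfsgLib.Derangements.FourOnDihedral

/-- The fixed points of an automorphism. -/
def fixedSub {H : Type*} [Group H] (α : MulAut H) : Subgroup H :=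
  α.toMonoidHom.eqLocus (MonoidHom.id H)

theorem mem_fixedSub {H : Type*} [Group H] {α : MulAut H} {x : H} : x ∈ fixedSub α ↔ α x = x :=
  Iff.rfl

/-- The automorphism fixes two distinct commuting involutions. -/
def HasFour {H : Type*} [Group H] (α : MulAut H) : Prop :=
  ∃ x y : H, orderOf x = 2 ∧ orderOf y = 2 ∧ x ≠ y ∧ x * y = y * x ∧ α x = x ∧ α y = y

theorem HasFour.conj {H : Type*} [Group H] {ψ : MulAut H} (h : HasFour ψ) (δ : MulAut H) :
    HasFour (δ * ψ * δ⁻¹) := by
  obtain ⟨x, y, hx, hy, hne, hc, fx, fy⟩ := h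
  refine ⟨δ x, δ y, (δ.orderOf_eq x).trans hx, (δ.orderOf_eq y).trans hy,
    fun e => hne (δ.injective e), by rw [← map_mul, hc, map_mul], ?_, ?_⟩ <;>
    simp [fx, fy]

theorem conj_apply_eq {H : Type*} [Group H] (φ : MulAut H) (x : H) :
    φ * MulAut.conj x * φ⁻¹ = MulAut.conj (φ x) := by
  ext y; simp

/-- Fixed points correspond to inner automorphisms commuting with the given one. -/
theorem apply_eq_self_iff {H : Type*} [Group H]
    (hinj : Function.Injective (MulAut.conj : H → MulAut H)) (φ : MulAut H) (x : H) :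
    φ x = x ↔ φ * MulAut.conj x = MulAut.conj x * φ := by
  rw [← mul_inv_eq_iff_eq_mul, conj_apply_eq]
  exact hinj.eq_iff.symm

namespace PSLTwo

open CfsgLib.ReflectionsSpinor.PSL CfsgLib.GW.PGLTwo

universe u

variable {F : Type u} [Field F] [Fintype F]

local notation "M₂" => Matrix (Fin 2) (Fin 2) F
local notation "GL₂" => GL (Fin 2) F
local notation "SL₂" => Matrix.SpecialLinearGroup (Fin 2) F
local notation "G₀" => Matrix.ProjectiveSpecialLinearGroup (Fin 2) F
local notation "A" => toAutHom (n := 2) (F := F)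

theorem conj_eq_A (s : SL₂) : MulAut.conj (cl s) = A (Matrix.SpecialLinearGroup.toGL s) :=
  inner_eq_semiAut s

theorem innG_le_range : innG F ≤ (A).range := by
  rintro _ ⟨x, rfl⟩
  obtain ⟨s, rfl⟩ := cl_surjective x
  exact ⟨_, (conj_eq_A s).symm⟩

variable (h2 : (2 : F) ≠ 0) (h3 : 3 < Fintype.card F)
include h2 h3

theorem conj_injective : Function.Injective (MulAut.conj : G₀ → MulAut G₀) := by
  haveI : IsSimpleGroup G₀ := CfsgLib.ClassicalLinear.isSimpleGroup_psl_fin (n := 2) le_rfl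
    fun _ => by rw [Nat.card_eq_fintype_card]; omega
  refine (MonoidHom.ker_eq_bot_iff (MulAut.conj (G := G₀))).1
    ((Subgroup.Normal.eq_bot_or_eq_top inferInstance).resolve_right fun htop => ?_)
  let s : SL₂ := ⟨!![1, 1; 0, 1], by simp⟩
  let t : SL₂ := ⟨!![1, 0; 1, 1], by simp⟩
  have h1 : MulAut.conj (cl s) = 1 := MonoidHom.mem_ker.1 (htop ▸ Subgroup.mem_top (cl s))
  have h := DFunLike.congr_fun h1 (cl t)
  rw [MulAut.conj_apply, MulAut.one_apply, mul_inv_eq_iff_eq_mul, ← cl_mul, ← cl_mul, cl_eq_cl_iff] at h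
  obtain ⟨c, hc⟩ := h
  rw [Matrix.SpecialLinearGroup.coe_mul, Matrix.SpecialLinearGroup.coe_mul] at hc
  have e00 := congrFun (congrFun hc 0) 0
  have e01 := congrFun (congrFun hc 0) 1
  simp [s, t, Matrix.mul_apply, Fin.sum_univ_two] at e00 e01
  rw [← e01] at e00
  exact one_ne_zero (α := F) (by linear_combination -e00)

/-- Two commuting inner involutions given by trace-zero matrices commuting with `α` give a
four-group fixed by `α`. -/
theorem hasFour_of_A {α : MulAut G₀} {a b : GL₂} (ha : (a : M₂).trace = 0)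
    (has : IsSquare (a : M₂).det) (hbs : IsSquare (b : M₂).det)
    (e : (b : M₂) * (a : M₂) = -((a : M₂) * (b : M₂)))
    (ca : α * A a = A a * α) (cb : α * A b = A b * α) : HasFour α := by
  obtain ⟨x, hx⟩ := A_mem_inn_iff.2 has
  obtain ⟨y, hy⟩ := A_mem_inn_iff.2 hbs
  have hinj := conj_injective h2 h3
  have hb := trace_of_anti h2 ha e
  refine ⟨x, y, ?_, ?_, ?_, ?_, ?_, ?_⟩
  · rw [← orderOf_injective (MulAut.conj (G := G₀)) hinj x, hx]
    exact (orderOf_A_iff h2).2 ha
  · rw [← orderOf_injective (MulAut.conj (G := G₀)) hinj y, hy]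
    exact (orderOf_A_iff h2).2 hb
  · intro hxy
    obtain ⟨c, -, hc⟩ := A_eq_iff.1 (hy.symm.trans (hxy ▸ hx))
    refine not_commute_of_anti h2 e ?_
    rw [hc, Matrix.smul_mul, Matrix.mul_smul]
  · refine hinj ?_
    rw [map_mul, map_mul, hx, hy]
    exact ((commute_A_iff h2 ha).2 (Or.inr e)).symm
  · rw [apply_eq_self_iff hinj, hx]; exact ca
  · rw [apply_eq_self_iff hinj, hy]; exact cb

/-- Field automorphisms fix a four-group. -/
theorem hasFour_field (σ : F ≃+* F) : HasFour (semiAut (n := 2) (1 : GL₂) σ) := by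
  obtain ⟨p, hp⟩ := CharP.exists F
  haveI : Fact p.Prime := ⟨(CharP.char_is_prime_or_zero F p).resolve_right (CharP.char_ne_zero_of_finite F p)⟩
  obtain ⟨a, b, hab⟩ := ZMod.sq_add_sq p (-1)
  set ι : ZMod p →+* F := ZMod.castHom (dvd_refl p) F with hι
  have hfix : ∀ z, σ (ι z) = ι z := fun z =>
    DFunLike.congr_fun (RingHom.ext_zmod (σ.toRingHom.comp ι) ι) z
  have hsum : ι a ^ 2 + ι b ^ 2 = -1 := by
    rw [← map_pow, ← map_pow, ← map_add, hab, map_neg, map_one]
  let s : SL₂ := ⟨!![0, 1; -1, 0], by simp⟩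
  let t : SL₂ := ⟨!![ι a, ι b; ι b, -ι a], by rw [Matrix.det_fin_two_of]; linear_combination -hsum⟩
  set S := Matrix.SpecialLinearGroup.toGL s
  set T := Matrix.SpecialLinearGroup.toGL t
  have hS : (S : M₂) = !![0, 1; -1, 0] := rfl
  have hT : (T : M₂) = !![ι a, ι b; ι b, -ι a] := rfl
  have key : ∀ u : SL₂, (u : M₂).map σ = (u : M₂) →
      semiAut (n := 2) (1 : GL₂) σ (cl u) = cl u := fun u hu => by
    rw [semiAut_cl]
    refine congrArg cl (Subtype.ext ?_)
    rw [coe_semiSLHom, inv_one, Units.val_one, Matrix.one_mul, Matrix.mul_one, hu]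
  have hinj := conj_injective h2 h3
  refine hasFour_of_A h2 h3 (a := S) (b := T) (by rw [hS]; simp [Matrix.trace_fin_two])
    ⟨1, by rw [one_mul]; exact s.det_coe⟩ ⟨1, by rw [one_mul]; exact t.det_coe⟩ ?_ ?_ ?_
  · rw [hS, hT]
    ext i j; fin_cases i <;> fin_cases j <;> simp [Matrix.mul_apply, Fin.sum_univ_two]
  · rw [← conj_eq_A, ← apply_eq_self_iff hinj]
    refine key s ?_
    ext i j; fin_cases i <;> fin_cases j <;> simp [s]
  · rw [← conj_eq_A, ← apply_eq_self_iff hinj]
    refine key t ?_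
    ext i j; fin_cases i <;> fin_cases j <;> simp [t, hfix]

/-- An involutory automorphism fixing no four-group is given by a matrix of trace zero and
non-square determinant. -/
theorem exists_matrix (α : MulAut G₀) (ha : orderOf α = 2) (hf : ¬ HasFour α) :
    ∃ g : GL₂, (g : M₂).trace = 0 ∧ ¬ IsSquare (g : M₂).det ∧ α = A g := by
  obtain ⟨g, σ, (rfl | ⟨h, -⟩)⟩ := exists_semiAut le_rfl α
  swap
  · omega
  by_cases hσ : σ = 1
  · subst hσ
    rw [← toAutHom_apply] at ha hf ⊢
    have hg := (orderOf_A_iff h2).1 ha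
    refine ⟨g, hg, fun hsq => hf ?_, rfl⟩
    obtain ⟨h, he⟩ := exists_anti h2 hg
    obtain ⟨x, y, hxy⟩ := exists_norm_eq h2 (det_ne_zero g) (h : M₂).det
    let z : GL₂ := Matrix.GeneralLinearGroup.mkOfDetNeZero (x • (1 : M₂) + y • (g : M₂))
      (by rw [det_add_smul h2 hg, hxy]; exact det_ne_zero h)
    have hz : (z : M₂) = x • (1 : M₂) + y • (g : M₂) := rfl
    have e : ((h * z : GL₂) : M₂) * (g : M₂) = -((g : M₂) * ((h * z : GL₂) : M₂)) := by
      have hzg : (z : M₂) * (g : M₂) = (g : M₂) * (z : M₂) := by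
        rw [hz]; simp [Matrix.mul_add, Matrix.add_mul]
      rw [Units.val_mul, Matrix.mul_assoc, hzg, ← Matrix.mul_assoc, he, Matrix.neg_mul,
        Matrix.mul_assoc]
    refine hasFour_of_A h2 h3 hg hsq ?_ e rfl ?_
    · rw [Units.val_mul, Matrix.det_mul, hz, det_add_smul h2 hg, hxy]
      exact ⟨_, rfl⟩
    · exact ((commute_A_iff h2 hg).2 (Or.inr e)).symm
  · exfalso
    have h1 : semiAut g σ ^ 2 = 1 := by
      have := pow_orderOf_eq_one (semiAut g σ)
      rwa [ha] at this
    have hσ2 : σ ^ 2 = 1 := by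
      have h' := h1
      rw [semiAut_pow, semiAut_eq_one_iff le_rfl] at h'
      exact h'.1
    haveI : Fact (Nat.Prime 2) := ⟨Nat.prime_two⟩
    obtain ⟨d, -, hd⟩ := isConjUnder_of_pow_eq_one le_rfl g (orderOf_eq_prime hσ2 hσ) h1
    exact hf (hd ▸ (hasFour_field h2 h3 σ).conj d)

theorem map_fixedSub (g : GL₂) :
    (fixedSub (H := G₀) (A g)).map (MulAut.conj (G := G₀)) = innG F ⊓ Subgroup.centralizer ({A g} : Set (MulAut G₀)) := by
  ext φ
  constructor
  · rintro ⟨x, hx, rfl⟩
    exact ⟨⟨x, rfl⟩, Subgroup.mem_centralizer_singleton_iff.2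
      ((apply_eq_self_iff (conj_injective h2 h3) _ _).1 hx).symm⟩
  · rintro ⟨⟨x, rfl⟩, hx⟩
    exact ⟨x, (apply_eq_self_iff (conj_injective h2 h3) _ _).2
      (Subgroup.mem_centralizer_singleton_iff.1 hx).symm, rfl⟩

theorem card_fixedSub_mul {g : GL₂} (hg : (g : M₂).trace = 0) (hns : ¬ IsSquare (g : M₂).det) :
    Nat.card (fixedSub (H := G₀) (A g)) * (Fintype.card F - 1) =
      Nat.card {p : F × F // p.1 ^ 2 + (g : M₂).det * p.2 ^ 2 ≠ 0} := by
  have hm : Nat.card (fixedSub (H := G₀) (A g)) = Nat.card ↥(innG F ⊓ Subgroup.centralizer ({A g} : Set (MulAut G₀))) := by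
    rw [← map_fixedSub h2 h3, Subgroup.card_map_of_injective (conj_injective h2 h3)]
  set K := innG F ⊓ Subgroup.centralizer ({A g} : Set (MulAut G₀)) with hK
  set R := (A).range ⊓ Subgroup.centralizer ({A g} : Set (MulAut G₀)) with hR
  have hle : K ≤ R := inf_le_inf_right _ innG_le_range
  have hgR : A g ∈ R := ⟨⟨g, rfl⟩, Subgroup.mem_centralizer_singleton_iff.2 rfl⟩
  have hidx : (K.subgroupOf R).index = 2 := by
    rw [Subgroup.index_eq_two_iff]
    refine ⟨⟨A g, hgR⟩, ?_⟩
    rintro ⟨b, ⟨P, rfl⟩, hb⟩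
    have e1 : ((A P * A g : MulAut G₀) ∈ K) ↔ (IsSquare (P : M₂).det ↔ IsSquare (g : M₂).det) := by
      rw [hK, Subgroup.mem_inf, and_iff_left, ← map_mul, A_mem_inn_iff, Units.val_mul,
        Matrix.det_mul, isSquare_mul_iff (det_ne_zero P) (det_ne_zero g)]
      exact mul_mem hb (Subgroup.mem_centralizer_singleton_iff.2 rfl)
    have e2 : (A P ∈ K) ↔ IsSquare (P : M₂).det := by
      rw [hK, Subgroup.mem_inf, and_iff_left (show A P ∈ Subgroup.centralizer ({A g} : Set (MulAut G₀)) from hb), A_mem_inn_iff]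
    simp only [Subgroup.mem_subgroupOf, Subgroup.coe_mul, e1, e2]
    by_cases hP : IsSquare (P : M₂).det <;> simp [hP, hns]
  have h := Subgroup.card_mul_index (K.subgroupOf R)
  rw [hidx, Nat.card_congr (Subgroup.subgroupOfEquivOfLe hle).toEquiv] at h
  have hc := CfsgLib.GW.PGLTwo.card_centralizer h2 hg
  rw [← hR, ← h] at hc
  rw [hm]
  linarith

theorem card_fixedSub {g : GL₂} (hg : (g : M₂).trace = 0) (hns : ¬ IsSquare (g : M₂).det) :
    Nat.card (fixedSub (H := G₀) (A g)) =
      if Fintype.card F % 4 = 1 then Fintype.card F + 1 else Fintype.card F - 1 := by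
  have hodd : Fintype.card F % 2 = 1 := FiniteField.odd_card_of_char_ne_two fun h => by
    haveI : CharP F 2 := ringChar.of_eq h
    exact h2 (CharTwo.two_eq_zero)
  have hd := det_ne_zero g
  have hiff : IsSquare (-(g : M₂).det) ↔ Fintype.card F % 4 = 3 := by
    rw [← neg_one_mul, isSquare_mul_iff (neg_ne_zero.2 one_ne_zero) hd, iff_false_intro hns,
      iff_false, FiniteField.isSquare_neg_one_iff, not_not]
  have h := card_fixedSub_mul h2 h3 hg hns
  split_ifs with hq
  · rw [card_pairs_of_nonsquare h2 (fun hs => by have := hiff.1 hs; omega)] at h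
    refine Nat.eq_of_mul_eq_mul_right (by omega : 0 < Fintype.card F - 1) (h.trans ?_)
    rw [← Nat.sq_sub_sq, one_pow]
  · obtain ⟨s, hs⟩ := hiff.2 (by omega)
    rw [card_pairs_of_square h2 hs (fun h0 => hd (by simpa [h0] using hs))] at h
    exact Nat.eq_of_mul_eq_mul_right (by omega) (h.trans (pow_two _))

theorem conj_eq_of_fixed_both {g h : GL₂} (hg : (g : M₂).trace = 0) (hh : (h : M₂).trace = 0)
    (hgs : ¬ IsSquare (g : M₂).det) (hhs : ¬ IsSquare (h : M₂).det) (hne : A g ≠ A h)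
    (hc : A h * A g = A g * A h) {x : G₀} (hxg : (A g : MulAut G₀) x = x) (hxh : (A h : MulAut G₀) x = x) (hx1 : x ≠ 1) :
    MulAut.conj x = A g * A h := by
  classical
  have hinj := conj_injective h2 h3
  have e := anti_of_ne h2 hg hh hne hc
  set D := (A).range ⊓ Subgroup.centralizer ({A g, A h} : Set (MulAut G₀)) with hD
  set K := innG F ⊓ D with hK
  have hD4 : Nat.card D = 4 := card_centralizer_four h2 hg e
  have hgg : A g * A g = 1 := mul_self_of_orderOf ((orderOf_A_iff h2).2 hg)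
  have hhh : A h * A h = 1 := mul_self_of_orderOf ((orderOf_A_iff h2).2 hh)
  have hcg : A g ∈ Subgroup.centralizer ({A g, A h} : Set (MulAut G₀)) :=
    Subgroup.mem_centralizer_iff.2 (by rintro y (rfl | rfl); exacts [rfl, hc])
  have hch : A h ∈ Subgroup.centralizer ({A g, A h} : Set (MulAut G₀)) :=
    Subgroup.mem_centralizer_iff.2 (by rintro y (rfl | rfl); exacts [hc.symm, rfl])
  have hK2 : Nat.card K ≤ 2 := by
    obtain ⟨c, hc'⟩ := Subgroup.card_dvd_of_le (show K ≤ D from inf_le_right)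
    rw [hD4] at hc'
    rcases c with - | - | c
    · omega
    · exfalso
      have hKD : K = D := Subgroup.eq_of_le_of_card_ge inf_le_right (by omega)
      have : A g ∈ K := hKD.symm ▸ ⟨⟨g, rfl⟩, hcg⟩
      exact hgs (A_mem_inn_iff.1 this.1)
    · have : Nat.card K * 2 ≤ Nat.card K * (c + 1 + 1) := Nat.mul_le_mul_left _ (by omega)
      omega
  have hprod : A g * A h ∈ K := by
    refine ⟨?_, mul_mem ⟨g, rfl⟩ ⟨h, rfl⟩, mul_mem hcg hch⟩
    show A g * A h ∈ innG F
    rw [← map_mul, A_mem_inn_iff, Units.val_mul, Matrix.det_mul,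
      isSquare_mul_iff (det_ne_zero g) (det_ne_zero h)]
    simp [hgs, hhs]
  have hxK : MulAut.conj x ∈ K := by
    refine ⟨⟨x, rfl⟩, innG_le_range ⟨x, rfl⟩, Subgroup.mem_centralizer_iff.2 ?_⟩
    rintro y (rfl | rfl)
    · exact (apply_eq_self_iff hinj _ _).1 hxg
    · exact (apply_eq_self_iff hinj _ _).1 hxh
  by_contra hxp
  have h1 : MulAut.conj x ≠ 1 := fun h1 => hx1 (hinj (h1.trans (map_one _).symm))
  have hp : A g * A h ≠ 1 := fun hp => hne (by
    calc A g = A g * (A h * A h) := by rw [hhh, mul_one]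
      _ = A h := by rw [← mul_assoc, hp, one_mul])
  have hsub : ({1, MulAut.conj x, A g * A h} : Set (MulAut G₀)) ⊆ K := by
    rintro y (rfl | rfl | rfl)
    exacts [one_mem _, hxK, hprod]
  have := Set.ncard_le_ncard hsub (Set.toFinite _)
  rw [Set.ncard_insert_of_notMem (by
      simp only [Set.mem_insert_iff, Set.mem_singleton_iff, not_or]
      exact ⟨Ne.symm h1, Ne.symm hp⟩) (Set.toFinite _),
    Set.ncard_pair hxp, ← Nat.card_coe_set_eq] at this
  exact absurd (this.trans hK2) (by norm_num)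

theorem card_fixed_inter_le {g h : GL₂} (hg : (g : M₂).trace = 0) (hh : (h : M₂).trace = 0)
    (hgs : ¬ IsSquare (g : M₂).det) (hhs : ¬ IsSquare (h : M₂).det) (hne : A g ≠ A h)
    (hc : A h * A g = A g * A h) : Nat.card ↥(fixedSub (H := G₀) (A g) ⊓ fixedSub (H := G₀) (A h)) ≤ 2 := by
  classical
  have hsub : ((fixedSub (H := G₀) (A g) ⊓ fixedSub (H := G₀) (A h)).map (MulAut.conj (G := G₀)) : Set (MulAut G₀)) ⊆
      {1, A g * A h} := by
    rintro _ ⟨x, ⟨hxg, hxh⟩, rfl⟩
    by_cases hx : x = 1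
    · simp [hx]
    · simp [conj_eq_of_fixed_both h2 h3 hg hh hgs hhs hne hc hxg hxh hx]
  rw [← Subgroup.card_map_of_injective (conj_injective h2 h3), ← SetLike.coe_sort_coe,
    Nat.card_coe_set_eq]
  refine (Set.ncard_le_ncard hsub (Set.toFinite _)).trans ((Set.ncard_insert_le _ _).trans ?_)
  rw [Set.ncard_singleton]

theorem fixed_le_of_central {g h : GL₂} (hg : (g : M₂).trace = 0) (hh : (h : M₂).trace = 0)
    (hgs : ¬ IsSquare (g : M₂).det) (hhs : ¬ IsSquare (h : M₂).det) (hne : A g ≠ A h)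
    (hc : A h * A g = A g * A h) {k : G₀} (hkg : (A g : MulAut G₀) k = k) (hkh : (A h : MulAut G₀) k = k) (hk : k ≠ 1)
    (hcen : ∀ c, (A g : MulAut G₀) c = c → k * c = c * k) : fixedSub (H := G₀) (A g) ≤ fixedSub (H := G₀) (A h) := by
  intro c hcg
  have hinj := conj_injective h2 h3
  rw [mem_fixedSub, apply_eq_self_iff hinj]
  have h1 : Commute (A g) (MulAut.conj c) := (apply_eq_self_iff hinj _ _).1 hcg
  have h2' : Commute (A g * A h) (MulAut.conj c) := by
    rw [← conj_eq_of_fixed_both h2 h3 hg hh hgs hhs hne hc hkg hkh hk]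
    exact congrArg MulAut.conj (hcen c hcg) |>.symm.trans (by rw [map_mul]) |>.symm |>.trans (by rw [map_mul])
  have hgg : A g * A g = 1 := mul_self_of_orderOf ((orderOf_A_iff h2).2 hg)
  have : A h = A g * (A g * A h) := by rw [← mul_assoc, hgg, one_mul]
  rw [this]
  exact (h1.mul_left h2').eq

end PSLTwo

end CfsgLib.Derangements.FourOnDihedral
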